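import Cfsg.Agent.Mrg.Omega.EK3.Q.TwoU
import Cfsg.Agent.Mrg.Omega.EK3.UFixG
import Cfsg.Agent.Mrg.Omega.KL.Q.Def
import Cfsg.Agent.Mrg.Omega.KL.Q.EndG
import Cfsg.Agent.Mrg.Omega.KL.QF.KInX
import Cfsg.Agent.Mrg.Omega.Node.MulXTwo
import Cfsg.Agent.Mrg.Omega.EK3.FK.OfSplit

-- merged: Cfsg.Agent.Mrg.Omega.EK3.QG.StabW
section

section


/-!
# (E), `k ≥ 3`, `q ≥ 4`, over `MulG`: the stabiliser of a vector of `W i` in `Y_j`, from the weak (TI) (bb #25647)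

* `stabD` : `c ∈ D`, `c w c⁻¹ ∈ W i`, `w ∈ W i - Z i` ⟹ `c ∈ N(W i)`;
* **`stabW`** : `i ≠ j`, `c ∈ Y_j`, `[c, w] ∈ Z i`, `w ∈ W i - Z i` ⟹ `c ∈ N(W i)`.
-/

set_option autoImplicit false
set_option linter.unusedSectionVars false
set_option linter.unusedVariables false

namespace Cfsg.Agent.Omega.EK3.QG

open Subgroup Cfsg Cfsg.Agent.ZN.ChoiceBase
open Cfsg.Agent.ZN (jj zj bau zc zl o2)
open Cfsg.Agent.Omega
open Cfsg.Agent.Omega.OM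
open Cfsg.Agent.Omega.NO3S.EThree.Frame
open Cfsg.Agent.Omega.NO3S.EMany
open Cfsg.Agent.Omega.Node.MultiOf
open Cfsg.Agent.Omega.Node.MulG
open Cfsg.Agent.Omega.EK3.Q (YQ CQ NQ TY mem_YQ mem_CQ CQ_comm YQ_le_left YQ_le_right YQ_cent CQ_cent YQ_eq_cent CQ_eq_cent)
open Cfsg.Agent.MinSimple.MinParabolic (IsMinPar)
open scoped Pointwise

universe u

variable {G : Type u} [Group G] {k : ℕ}

namespace FrG

variable [Finite G] {S : Sylow 2 G} {P K B ZJ : Subgroup G} {L W Z C : Fin k → Subgroup G} {q : ℕ}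
  (h : FrG S P K B ZJ L W Z C q)
include h

/-- `c ∈ D`, `c w c⁻¹ ∈ W i`, `w ∈ W i - Z i` ⟹ `c ∈ N(W i)` -/
theorem stabD {i : Fin k} {w : G} (hw : w ∈ W i) (hwZ : w ∉ Z i) {c : G} (hc : c ∈ centralizer (ZJ : Set G))
    (hcw : c * w * c⁻¹ ∈ W i) : c ∈ normalizer (W i : Set G) := by
  obtain ⟨z, hz, hz1⟩ : ∃ z ∈ Z i, z ≠ 1 := by
    by_contra hcon
    push Not at hcon
    exact h.bg.Z_ne i ((eq_bot_iff_forall _).2 hcon)
  have hw1 : w ≠ 1 := fun e => hwZ (e ▸ one_mem _)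
  have hcw1 : c * w * c⁻¹ ≠ 1 := fun e => hw1 (by
    have h1 := congrArg (fun t => c⁻¹ * t * c) e
    simpa [mul_assoc] using h1)
  obtain ⟨l, hl, e1⟩ := h.trL hw hw1 hz hz1
  obtain ⟨l', hl', e2⟩ := h.trL hcw hcw1 hz hz1
  set g : G := l'⁻¹ * c * l with hg
  have hgC : g ∈ YQ Z i := mul_mem (mul_mem (inv_mem (h.L_le i hl')) (h.D_le i hc)) (h.L_le i hl)
  have hgz : g * z * g⁻¹ = z := by
    have e : g * z * g⁻¹ = l'⁻¹ * (c * (l * z * l⁻¹) * c⁻¹) * l' := by rw [hg]; group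
    rw [e, e1, ← e2]
    group
  have hgN : g ∈ normalizer (Z i : Set G) := by
    refine h.cent_m hz hz1 (mem_inf.2 ⟨hgC, mem_centralizer_singleton_iff.2 ?_⟩)
    exact mul_inv_eq_iff_eq_mul.1 hgz
  have hcj : cj c (cj l (Z i)) = cj l' (Z i) := by
    have e : c * l = l' * g := by rw [hg]; group
    rw [cj_cj, e, ← cj_cj, mem_normalizer_iff_cj.1 hgN]
  have hne : cj l (Z i) ≠ Z i := by
    intro e
    apply hwZ
    rw [← e, ← e1]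
    exact ⟨z, hz, rfl⟩
  have hsup : Z i ⊔ cj l (Z i) = W i := AltQ.sup_eq (h.nb i) hl hne
  have hcZ : cj c (Z i) = Z i :=
    mem_normalizer_iff_cj.1 (centralizer_le_normalizer _ (centralizer_le (h.bg.fr.Z_le i) hc))
  have hle : cj c (W i) ≤ W i := by
    conv_lhs => rw [← hsup]
    have e : cj c (Z i ⊔ cj l (Z i)) = cj c (Z i) ⊔ cj c (cj l (Z i)) := Subgroup.map_sup _ _ _
    rw [e, hcZ, hcj]
    refine sup_le (h.bg.fr.blk i).ZV ?_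
    rintro _ ⟨x, hx, rfl⟩
    exact (h.bg.fr.blk i).nV l' hl' x ((h.bg.fr.blk i).ZV hx)
  rw [mem_normalizer_iff_cj]
  exact Subgroup.eq_of_le_of_card_ge hle (by rw [card_cj])

/-- `[c, w] ∈ Z i`, `w ∈ W i - Z i`, `c ∈ Y_j`, `i ≠ j` ⟹ `c ∈ N(W i)` -/
theorem stabW {i j : Fin k} (hij : i ≠ j) {w : G} (hw : w ∈ W i) (hwZ : w ∉ Z i) {c : G} (hc : c ∈ YQ Z j)
    (hcw : c * w * c⁻¹ * w⁻¹ ∈ Z i) : c ∈ normalizer (W i : Set G) := by
  have hcomm : ∀ a ∈ YQ Z j, ∀ z ∈ Z i, a * z = z * a := fun a ha z hz => mem_YQ.1 ha i hij z hz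
  let A : Subgroup G :=
    { carrier := {c | c ∈ YQ Z j ∧ c * w * c⁻¹ * w⁻¹ ∈ Z i}
      one_mem' := ⟨one_mem _, by simp⟩
      mul_mem' := by
        rintro a b ⟨ha, ha'⟩ ⟨hb, hb'⟩
        refine ⟨mul_mem ha hb, ?_⟩
        have e : a * b * w * (a * b)⁻¹ * w⁻¹ = a * (b * w * b⁻¹ * w⁻¹) * w * a⁻¹ * w⁻¹ := by group
        rw [e, hcomm a ha _ hb']
        have e2 : b * w * b⁻¹ * w⁻¹ * a * w * a⁻¹ * w⁻¹ = (b * w * b⁻¹ * w⁻¹) * (a * w * a⁻¹ * w⁻¹) := by group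
        rw [e2]
        exact mul_mem hb' ha'
      inv_mem' := by
        rintro a ⟨ha, ha'⟩
        refine ⟨inv_mem ha, ?_⟩
        have e : a⁻¹ * w * a⁻¹⁻¹ * w⁻¹ = a⁻¹ * (a * w * a⁻¹ * w⁻¹)⁻¹ * a := by group
        rw [e, hcomm a⁻¹ (inv_mem ha) _ (inv_mem ha'), inv_mul_cancel_right]
        exact inv_mem ha' }
  have hAY : A ≤ YQ Z j := fun a ha => ha.1
  have hAc : ∀ a ∈ A, a * w * a⁻¹ * w⁻¹ ∈ Z i := fun a ha => ha.2
  have hTA : TY S Z j ≤ A := fun t ht => ⟨ht.2, h.TY_com hij ht hw⟩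
  have key : A ≤ normalizer (W i : Set G) := by
    refine MinSimple.MinParabolic.le_of_forall hTA ?_ fun R hR hRA => ?_
    · rintro n ⟨hn, hnT⟩
      exact mem_normalizer_iff_cj.2 (h.fixB (h.norm_T_le j (mem_inf.2 ⟨hAY hn, hnT⟩)) (hAY hn) i).1
    · by_cases hZ : R ≤ normalizer (Z j : Set G)
      · intro r hr
        have hrY := hAY (hRA hr)
        have hrw := hAc r (hRA hr)
        obtain ⟨d, hd, n, hn, hnB, rfl⟩ := h.frat hrY (h.norm_ZJ' hrY (hZ hr))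
        have hnW : n ∈ normalizer (W i : Set G) := mem_normalizer_iff_cj.2 (h.fixB hnB hn i).1
        have hnZ : n ∈ normalizer (Z i : Set G) := mem_normalizer_iff_cj.2 (h.fixB hnB hn i).2
        refine mul_mem (h.stabD (w := n * w * n⁻¹) ((mem_normalizer_iff.1 hnW w).1 hw)
          (fun e => hwZ ((mem_normalizer_iff.1 hnZ w).2 e)) hd ?_) hnW
        have e : d * (n * w * n⁻¹) * d⁻¹ = (d * n * w * (d * n)⁻¹ * w⁻¹) * w := by group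
        rw [e]
        exact mul_mem ((h.bg.fr.blk i).ZV hrw) hw
      · refine ML.MinFrame.le_normalizer_of fun r hr x hx => ?_
        have e : r * x * r⁻¹ = (r * x * r⁻¹ * x⁻¹) * x := by group
        rw [e]
        exact mul_mem ((h.bg.fr.blk i).ZV (h.hU hij hR (hRA.trans hAY) hZ r hr x hx)) hx
  exact key ⟨hc, hcw⟩

end FrG

end Cfsg.Agent.Omega.EK3.QG

end

section


/-!
# (E), `k ≥ 3`, `q ≥ 4`, over `MulG`: the two points (port of `EK3/Q/Two.lean` of helper176)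

Over the frame `FrG` (helper968): `Y_j = YQ Z j` acts on `N / Zᶜ`, `Zᶜ = Zs Z j = ⟨Z l : l ≠ j⟩`,
`N = MQ .. i j = ⟨(W i Z_J)^{Y_j}⟩`, with the two points `X = Z_J / Zᶜ`, `Y = W i Zᶜ / Zᶜ`.

* `coset` : `c ∈ Y_j`, `[c, p] ∈ Zᶜ`, `[B, p] = 1 mod Zᶜ` ⟹ `[c, p] ∈ Z₀` if this holds for `c ∈ N(B)`;
* `coset_Z` : `[c, m] ∈ Zᶜ`, `m ∈ Z j` ⟹ `[c, m] = 1`;  `coset_W` : `[c, w] ∈ Zᶜ`, `w ∈ W i` ⟹ `[c, w] ∈ Z i`;
* **`gInQ`** : `KL.Q.PlugGG.GInQ`, from `u1`, `u2`, `nX`, `nY` and the exact group.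
-/

set_option autoImplicit false
set_option maxHeartbeats 400000
set_option linter.unusedSectionVars false
set_option linter.unusedVariables false

namespace Cfsg.Agent.Omega.EK3.QG

open Subgroup Cfsg Cfsg.Agent.ZN.ChoiceBase
open Cfsg.Agent.ZN (jj zj bau zc zl o2)
open Cfsg.Agent.ZN.ChoiceSit (Syl exists_syl syl_conj isPGroup_o2 le_o2 le_normalizer_o2 o2_le_syl syl_not_dvd)
open Cfsg.Agent.Omega
open Cfsg.Agent.Omega.OM Cfsg.Agent.Omega.OM.Uni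
open Cfsg.Agent.Omega.NO3S.EThree.Frame
open Cfsg.Agent.Omega.NO3S.EMany
open Cfsg.Agent.Omega.Node.MultiOf
open Cfsg.Agent.Omega.Node.MulG
open Cfsg.Agent.Omega.EK3.Q (YQ CQ NQ TY EQ mem_YQ mem_CQ CQ_comm YQ_le_left YQ_le_right YQ_cent CQ_cent YQ_eq_cent CQ_eq_cent
  ZJ_le_EQ CQ_norm_EQ le_cls cls_self_norm cls_min cj_le_cls centralizer_norm)
open Cfsg.Agent.MinSimple.MinParabolic (IsMinPar)
open Cfsg.Agent.Omega.EK3.Two (Zs Z_le_Zs)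
open Cfsg.Agent.Omega.KL.Q.PlugGG (mem_nor_of)
open scoped Pointwise

universe u

variable {G : Type u} [Group G] {k : ℕ}

/-- the module `N = ⟨(W i Z_J)^{Y_j}⟩` -/
def MQ (Z W : Fin k → Subgroup G) (ZJ : Subgroup G) (i j : Fin k) : Subgroup G :=
  NoFF.Basic.V (W i ⊔ ZJ) (YQ Z j)

/-- the point `Y = W i Zᶜ` -/
def PQ (Z W : Fin k → Subgroup G) (i j : Fin k) : Subgroup G := W i ⊔ Zs Z j

theorem mem_sup_Zs {H Zc : Subgroup G} (hc : ∀ a ∈ H, ∀ s ∈ Zc, a * s = s * a) {x : G} (hx : x ∈ H ⊔ Zc) :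
    ∃ a ∈ H, ∃ s ∈ Zc, x = a * s :=
  SQ1.Bau.mem_sup_comm (fun a ha s hs => hc a ha s hs) hx

namespace FrG

variable [Finite G] {S : Sylow 2 G} {P K B ZJ : Subgroup G} {L W Z C : Fin k → Subgroup G} {q : ℕ}
  (h : FrG S P K B ZJ L W Z C q)
include h

theorem ZJ_le (j : Fin k) : ZJ ≤ Z j ⊔ Zs Z j := Two.ZJ_le h.bg j

theorem ZJ_le_B : ZJ ≤ B := h.bg.fr.ZJV.trans h.bg.fr.VB

theorem Zs_le_Y (j : Fin k) : Zs Z j ≤ YQ Z j := (h.Zs_le_ZJ j).trans (h.ZJ_le_B.trans (h.B_le_Y j))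

theorem W_le_Y (i j : Fin k) : W i ≤ YQ Z j := (h.W_le_B i).trans (h.B_le_Y j)

theorem mem_ZJ' {j : Fin k} {x : G} (hx : x ∈ ZJ) : ∃ m ∈ Z j, ∃ s ∈ Zs Z j, x = m * s :=
  mem_sup_Zs (fun a ha s hs => YQ_Zs (h.B_le_Y j (h.Z_le_B j ha)) hs) (h.ZJ_le j hx)

theorem mem_PQ {i j : Fin k} {x : G} (hx : x ∈ PQ Z W i j) : ∃ w ∈ W i, ∃ s ∈ Zs Z j, x = w * s :=
  mem_sup_Zs (fun a ha s hs => YQ_Zs (h.W_le_Y i j ha) hs) hx

theorem W_inf_ZJ {i : Fin k} {w : G} (hw : w ∈ W i) (hJ : w ∈ ZJ) : w ∈ Z i :=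
  (h.bg.fr.blk i).toMd.mem_Z_iff.2 ⟨hw, ((h.bg.fr.mem_ZJ w).1 hJ).2⟩

theorem Z_inf_Zs {j : Fin k} {m : G} (hm : m ∈ Z j) (hs : m ∈ Zs Z j) : m = 1 := by
  have hc : m ∈ W j ⊓ C j := ⟨(h.bg.fr.blk j).ZV hm, Two.Zs_le_C h.bg j hs⟩
  rwa [h.bg.fr.dir j, mem_bot] at hc

theorem W_inf_Zs_j {j : Fin k} {m : G} (hm : m ∈ W j) (hs : m ∈ Zs Z j) : m = 1 := by
  have hc : m ∈ W j ⊓ C j := ⟨hm, Two.Zs_le_C h.bg j hs⟩
  rwa [h.bg.fr.dir j, mem_bot] at hc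

/-! ### Cosets -/

/-- **the coset argument** -/
theorem coset {j : Fin k} {Z₀ : Subgroup G} (h0 : Z₀ ≤ Zs Z j) {p : G} (hpY : p ∈ YQ Z j)
    (hB : ∀ b ∈ B, b * p * b⁻¹ * p⁻¹ ∈ Zs Z j)
    (hN : ∀ c ∈ YQ Z j, c ∈ normalizer (B : Set G) → c * p * c⁻¹ * p⁻¹ ∈ Zs Z j → c * p * c⁻¹ * p⁻¹ ∈ Z₀)
    {c : G} (hc : c ∈ YQ Z j) (hcp : c * p * c⁻¹ * p⁻¹ ∈ Zs Z j) : c * p * c⁻¹ * p⁻¹ ∈ Z₀ := by
  have hmul : ∀ a ∈ YQ Z j, ∀ b : G, b * p * b⁻¹ * p⁻¹ ∈ Zs Z j →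
      a * b * p * (a * b)⁻¹ * p⁻¹ = (b * p * b⁻¹ * p⁻¹) * (a * p * a⁻¹ * p⁻¹) := by
    intro a ha b hb
    have h1 := YQ_Zs ha hb
    calc a * b * p * (a * b)⁻¹ * p⁻¹ = a * (b * p * b⁻¹ * p⁻¹) * p * a⁻¹ * p⁻¹ := by group
      _ = (b * p * b⁻¹ * p⁻¹) * a * p * a⁻¹ * p⁻¹ := by rw [h1]
      _ = _ := by group
  let H : Subgroup G :=
    { carrier := {c | c ∈ YQ Z j ∧ c * p * c⁻¹ * p⁻¹ ∈ Zs Z j}
      one_mem' := ⟨one_mem _, by simp⟩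
      mul_mem' := by
        rintro a b ⟨ha, ha'⟩ ⟨hb, hb'⟩
        refine ⟨mul_mem ha hb, ?_⟩
        rw [hmul a ha b hb']
        exact mul_mem hb' ha'
      inv_mem' := by
        rintro a ⟨ha, ha'⟩
        refine ⟨inv_mem ha, ?_⟩
        have h1 := YQ_Zs ha (inv_mem ha')
        have e : a⁻¹ * p * a⁻¹⁻¹ * p⁻¹ = a⁻¹ * ((a * p * a⁻¹ * p⁻¹)⁻¹ * a) := by group
        rw [e, ← h1]
        have e2 : a⁻¹ * (a * (a * p * a⁻¹ * p⁻¹)⁻¹) = (a * p * a⁻¹ * p⁻¹)⁻¹ := by group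
        rw [e2]
        exact inv_mem ha' }
  have hHY : H ≤ YQ Z j := fun b hb => hb.1
  have hBH : B ≤ H := fun b hb => ⟨h.B_le_Y j hb, hB b hb⟩
  obtain ⟨T, hT, hBT⟩ := exists_syl h.bg.bau_two hBH
  have hTB : T ≤ normalizer (B : Set G) := h.bg.le_norm_B hT.2.1 hBT
  refine Two.coset (B := T) (Y := H) (Zc := Zs Z j) (Z₀ := Z₀) hT.1 (syl_not_dvd hT)
    (h.bg.bau_two.to_le ((h.Zs_le_ZJ j).trans h.ZJ_le_B)) (fun c hc z hz => YQ_Zs (hHY hc) hz) ?_ h0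
    (fun b hb => hN b (hHY (hT.1 hb)) (hTB hb) (hT.1 hb).2) (c := c) ⟨hc, hcp⟩ hcp
  intro z hz
  refine ⟨h.Zs_le_Y j hz, ?_⟩
  have e := YQ_Zs hpY hz
  rw [← e, mul_inv_cancel_right, mul_inv_cancel]
  exact one_mem _

/-- **`Stab(x)`** -/
theorem coset_Z {j : Fin k} {m : G} (hm : m ∈ Z j) {c : G} (hc : c ∈ YQ Z j)
    (hcm : c * m * c⁻¹ * m⁻¹ ∈ Zs Z j) : c * m = m * c := by
  have h1 := h.coset (Z₀ := ⊥) bot_le (p := m) (h.B_le_Y j (h.Z_le_B j hm)) (fun b hb => by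
    rw [(h.bg.fr.blk j).cZ b hb _ hm, mul_inv_cancel_right, mul_inv_cancel]
    exact one_mem _) (fun c hc hcB hcm => ?_) hc hcm
  · rw [mem_bot] at h1
    have h2 := congrArg (fun t => t * (m * c)) h1
    simpa [mul_assoc] using h2
  · rw [mem_bot]
    refine h.Z_inf_Zs (mul_mem ?_ (inv_mem hm)) hcm
    exact (mem_normalizer_iff.1 (mem_normalizer_iff_cj.2 (h.fixB hcB hc j).2) m).1 hm

/-- **`Stab(y)`** -/
theorem coset_W {i j : Fin k} (hij : i ≠ j) {w : G} (hw : w ∈ W i) {c : G} (hc : c ∈ YQ Z j)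
    (hcw : c * w * c⁻¹ * w⁻¹ ∈ Zs Z j) : c * w * c⁻¹ * w⁻¹ ∈ Z i := by
  refine h.coset (Z₀ := Z i) (Z_le_Zs hij) (p := w) (h.W_le_Y i j hw)
    (fun b hb => Z_le_Zs hij ((h.bg.fr.blk i).com b hb w hw)) (fun c hc hcB hcw => ?_) hc hcw
  refine h.W_inf_ZJ (mul_mem ?_ (inv_mem hw)) (h.Zs_le_ZJ j hcw)
  exact (mem_normalizer_iff.1 (mem_normalizer_iff_cj.2 (h.fixB hcB hc i).1) w).1 hw

/-! ### The module -/

theorem MQ_norm (i j : Fin k) : YQ Z j ≤ normalizer (MQ Z W ZJ i j : Set G) := cls_self_norm _ _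

theorem le_MQ (i j : Fin k) : W i ⊔ ZJ ≤ MQ Z W ZJ i j := le_cls _ _

theorem MQ_min {i j : Fin k} {U : Subgroup G} (h1 : W i ⊔ ZJ ≤ U) (h2 : YQ Z j ≤ normalizer (U : Set G)) :
    MQ Z W ZJ i j ≤ U := cls_min h1 h2

theorem MQ_le_EQ {i j : Fin k} : MQ Z W ZJ i j ≤ EQ Z ZJ i j :=
  h.MQ_min (sup_le (h.W_le_EQ_left i j) (ZJ_le_EQ Z ZJ i j)) ((YQ_le_right Z i j).trans (CQ_norm_EQ Z ZJ i j))

theorem NQ_le_MQ (i j : Fin k) : NQ Z j ≤ MQ Z W ZJ i j :=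
  h.NQ_min ((h.bg.fr.Z_le j).trans (le_sup_right.trans (h.le_MQ i j))) (h.MQ_norm i j)

theorem MQ_sq {i j : Fin k} {x : G} (hx : x ∈ MQ Z W ZJ i j) : x * x = 1 := by
  rw [← pow_two]
  exact h.EQ_sq (h.MQ_le_EQ hx)

theorem PQ_le_MQ (i j : Fin k) : PQ Z W i j ≤ MQ Z W ZJ i j :=
  (sup_le_sup_left (h.Zs_le_ZJ j) _).trans (h.le_MQ i j)

/-- `[c, w s] = [c, w]` for `s ∈ Zᶜ` -/
theorem comm_mul_Zs {j : Fin k} {c s : G} (hc : c ∈ YQ Z j) (hs : s ∈ Zs Z j) (w : G) :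
    c * (w * s) * c⁻¹ * (w * s)⁻¹ = c * w * c⁻¹ * w⁻¹ := by
  have h1 := YQ_Zs (inv_mem hc) hs
  calc c * (w * s) * c⁻¹ * (w * s)⁻¹ = c * w * (s * c⁻¹) * s⁻¹ * w⁻¹ := by group
    _ = c * w * (c⁻¹ * s) * s⁻¹ * w⁻¹ := by rw [h1]
    _ = _ := by group

theorem four_le {i j : Fin k} (hij : i ≠ j) : 4 ≤ (Zs Z j).relIndex (PQ Z W i j) := by
  have h1 : (Zs Z j).relIndex (W i) ≤ (Zs Z j).relIndex (PQ Z W i j) :=
    relIndex_le_of_le_right (le_sup_left : W i ≤ W i ⊔ Zs Z j) index_ne_zero_of_finite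
  have e : Zs Z j ⊓ W i = Z i ⊓ W i := by
    apply le_antisymm
    · rintro x ⟨hx, hw⟩
      exact ⟨h.W_inf_ZJ hw (h.Zs_le_ZJ j hx), hw⟩
    · exact inf_le_inf_right _ (Z_le_Zs hij)
  have h2 : (Zs Z j).relIndex (W i) = (Z i).relIndex (W i) := by
    rw [← inf_relIndex_right, e, inf_relIndex_right]
  have h3 : Nat.card (Z i) * (Z i).relIndex (W i) = Nat.card (Z i) * q := by
    rw [Star.card_mul_relIndex (h.bg.fr.blk i).ZV, (h.bg.fr.blk i).card]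
  have h4 : (Z i).relIndex (W i) = q := Nat.eq_of_mul_eq_mul_left Nat.card_pos h3
  calc 4 ≤ q := h.four
    _ = (Zs Z j).relIndex (W i) := by rw [h2, h4]
    _ ≤ _ := h1

/-- the pairing -/
theorem pair {i j : Fin k} (hij : i ≠ j) {ζ : G} (hζ : ζ ∈ YQ Z j) (hζT : ζ ∈ normalizer (TY S Z j : Set G))
    {O : Set G} (hO : ∀ w ∈ O, ∃ g ∈ YQ Z j, ∃ m ∈ ZJ, g * m * g⁻¹ = w) (hYO : PQ Z W i j ≤ closure O ⊔ Zs Z j)
    (hT : ∀ t ∈ TY S Z j, ∀ w ∈ O, (ζ * t * ζ⁻¹ * t⁻¹) * w * (ζ * t * ζ⁻¹ * t⁻¹)⁻¹ * w⁻¹ ∈ Zs Z j) :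
    ∀ w ∈ PQ Z W i j, ζ * w * ζ⁻¹ * w⁻¹ ∈ Zs Z j := by
  -- `[ζ, T]` centralises `W i`
  have h1 : ∀ t ∈ TY S Z j, ∀ w ∈ W i, (ζ * t * ζ⁻¹ * t⁻¹) * w = w * (ζ * t * ζ⁻¹ * t⁻¹) := by
    intro t ht w hw
    set τ := ζ * t * ζ⁻¹ * t⁻¹ with hτ
    have hτY : τ ∈ YQ Z j := mul_mem (mul_mem (mul_mem hζ ht.2) (inv_mem hζ)) (inv_mem ht.2)
    have h2 : closure O ⊔ Zs Z j ≤ centralizer ({τ} : Set G) := by
      refine sup_le ?_ fun s hs => mem_centralizer_singleton_iff.2 (YQ_Zs hτY hs).symm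
      rw [closure_le]
      intro w hw
      obtain ⟨g, hg, x, hx, rfl⟩ := hO w hw
      obtain ⟨m, hm, s, hs, rfl⟩ := h.mem_ZJ' (j := j) hx
      have h3 := hT t ht _ hw
      rw [← hτ] at h3
      have hσ : g⁻¹ * τ * g ∈ YQ Z j := mul_mem (mul_mem (inv_mem hg) hτY) hg
      have h4 : (g⁻¹ * τ * g) * (m * s) * (g⁻¹ * τ * g)⁻¹ * (m * s)⁻¹ ∈ Zs Z j := by
        have h5 := YQ_Zs (inv_mem hg) h3
        have e : (g⁻¹ * τ * g) * (m * s) * (g⁻¹ * τ * g)⁻¹ * (m * s)⁻¹ =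
            g⁻¹ * (τ * (g * (m * s) * g⁻¹) * τ⁻¹ * (g * (m * s) * g⁻¹)⁻¹) * g := by group
        rw [e, h5, inv_mul_cancel_right]
        exact h3
      rw [h.comm_mul_Zs hσ hs] at h4
      have h5 := h.coset_Z hm hσ h4
      have h6 := YQ_Zs hσ hs
      have h7 : (g⁻¹ * τ * g) * (m * s) = (m * s) * (g⁻¹ * τ * g) := by
        rw [← mul_assoc, h5, mul_assoc, h6, ← mul_assoc]
      refine mem_centralizer_singleton_iff.2 ?_
      calc g * (m * s) * g⁻¹ * τ = g * ((m * s) * (g⁻¹ * τ * g)) * g⁻¹ := by group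
        _ = g * ((g⁻¹ * τ * g) * (m * s)) * g⁻¹ := by rw [h7]
        _ = τ * (g * (m * s) * g⁻¹) := by group
    exact (mem_centralizer_singleton_iff.1 (h2 (hYO (mem_sup_left hw)))).symm
  have hζB : ζ ∈ normalizer (B : Set G) := h.norm_T_le j (mem_inf.2 ⟨hζ, hζT⟩)
  have hζW : ζ ∈ normalizer (W i : Set G) := mem_normalizer_iff_cj.2 (h.fixB hζB hζ i).1
  intro x hx
  obtain ⟨w, hw, s, hs, rfl⟩ := h.mem_PQ hx
  rw [h.comm_mul_Zs hζ hs]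
  refine Z_le_Zs hij ((h.bg.fr.blk i).toMd.mem_Z_iff.2 ?_)
  have hw' : ζ * w * ζ⁻¹ ∈ W i := (mem_normalizer_iff.1 hζW w).1 hw
  refine ⟨mul_mem hw' (inv_mem hw), fun b hb => ?_⟩
  have hWc : ∀ {x y : G}, x ∈ W i → y ∈ W i → x * y = y * x := fun hx hy =>
    h.bg.fr.Vc (h.bg.fr.WV i hx) (h.bg.fr.WV i hy)
  set b' := ζ⁻¹ * b * ζ with hb'
  have hbT : b ∈ TY S Z j := h.B_le_T j hb
  have hbT' : b' ∈ TY S Z j := by
    have h2 := (mem_normalizer_iff.1 (inv_mem hζT) b).1 hbT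
    rwa [inv_inv] at h2
  have hbB' : b' ∈ B := by
    have h2 := (mem_normalizer_iff.1 (inv_mem hζB) b).1 hb
    rwa [inv_inv] at h2
  have hbW : b' * w * b'⁻¹ ∈ W i := (h.bg.fr.blk i).BV hbB' hw
  -- `[b', w] = [b, w]`
  have h2 : b * w * b⁻¹ = b' * w * b'⁻¹ := by
    have h3 := h1 b' hbT' _ hbW
    have e : ζ * b' * ζ⁻¹ * b'⁻¹ = b * b'⁻¹ := by rw [hb']; group
    rw [e] at h3
    calc b * w * b⁻¹ = (b * b'⁻¹) * (b' * w * b'⁻¹) * (b' * b⁻¹) := by group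
      _ = (b' * w * b'⁻¹) * (b * b'⁻¹) * (b' * b⁻¹) := by rw [h3]
      _ = _ := by group
  have hzc : b' * w * b'⁻¹ * w⁻¹ ∈ Z i := (h.bg.fr.blk i).com b' hbB' w hw
  have h3 : ζ * (b' * w * b'⁻¹ * w⁻¹) = (b' * w * b'⁻¹ * w⁻¹) * ζ := mem_YQ.1 hζ i hij _ hzc
  -- `b (ζ w ζ⁻¹) b⁻¹ = [b', w] (ζ w ζ⁻¹)`
  have h4 : b * (ζ * w * ζ⁻¹) * b⁻¹ = (b' * w * b'⁻¹ * w⁻¹) * (ζ * w * ζ⁻¹) := by
    calc b * (ζ * w * ζ⁻¹) * b⁻¹ = ζ * (b' * w * b'⁻¹ * w⁻¹) * w * ζ⁻¹ := by rw [hb']; group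
      _ = (b' * w * b'⁻¹ * w⁻¹) * ζ * w * ζ⁻¹ := by rw [h3]
      _ = _ := by group
  set z := b' * w * b'⁻¹ * w⁻¹ with hz
  have h5 : b * w * b⁻¹ = z * w := by rw [h2, hz]; group
  have hzW : z ∈ W i := (h.bg.fr.blk i).ZV hzc
  have h6 : b * (ζ * w * ζ⁻¹ * w⁻¹) * b⁻¹ = ζ * w * ζ⁻¹ * w⁻¹ := by
    calc b * (ζ * w * ζ⁻¹ * w⁻¹) * b⁻¹ = (b * (ζ * w * ζ⁻¹) * b⁻¹) * (b * w * b⁻¹)⁻¹ := by group
      _ = z * (ζ * w * ζ⁻¹) * (z * w)⁻¹ := by rw [h4, h5]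
      _ = (z * ((ζ * w * ζ⁻¹) * w⁻¹)) * z⁻¹ := by group
      _ = ((ζ * w * ζ⁻¹) * w⁻¹ * z) * z⁻¹ := by rw [hWc hzW (mul_mem hw' (inv_mem hw))]
      _ = _ := by group
  exact mul_inv_eq_iff_eq_mul.1 h6

/-- **`(Gq)` for `Y_j` on `N / Zᶜ`** -/
theorem gInQ {i j : Fin k} (hij : i ≠ j) (KG : IsKGroup (YQ Z j))
    (nX : YQ Z j ⊓ normalizer (TY S Z j : Set G) ≤ normalizer (ZJ : Set G))
    (nY : YQ Z j ⊓ normalizer (TY S Z j : Set G) ≤ normalizer (PQ Z W i j : Set G))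
    (u1 : ∀ R : Subgroup G, IsMinPar (TY S Z j) R → R ≤ YQ Z j → ∀ m ∈ ZJ,
      (∀ t ∈ TY S Z j, t * m * t⁻¹ * m⁻¹ ∈ Zs Z j) → (∃ p ∈ R, p * m * p⁻¹ * m⁻¹ ∉ Zs Z j) →
      ∀ p ∈ R, ∀ w ∈ PQ Z W i j, p * w * p⁻¹ * w⁻¹ ∈ Zs Z j)
    (u2 : ∀ R : Subgroup G, IsMinPar (TY S Z j) R → R ≤ YQ Z j → ¬ R ≤ normalizer (ZJ : Set G) →
      (∀ p ∈ R, ∀ w ∈ PQ Z W i j, p * w * p⁻¹ * w⁻¹ ∈ Zs Z j) ∧
      R ≤ normalizer (PQ Z W j j : Set G) ∧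
      ∀ v ∈ PQ Z W j j, ∀ w ∈ PQ Z W j j, v ∉ Zs Z j → w ∉ Zs Z j → ∃ p ∈ R, p * v * p⁻¹ * w⁻¹ ∈ Zs Z j)
    {F : Subgroup G} (el : ∀ a ∈ F, a * a = 1) (hFO : F ≤ o2 (centralizer (ZJ : Set G)))
    (hFW : F ≤ o2 (YQ Z j ⊓ centralizer (W i : Set G))) (mv : ¬ F ≤ centralizer (NQ Z j : Set G))
    (hFc : F ⊓ centralizer (NQ Z j : Set G) ≤ centralizer (MQ Z W ZJ i j : Set G))
    (hFe : (centralizer (F : Set G)).relIndex (MQ Z W ZJ i j) ≤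
      (centralizer (MQ Z W ZJ i j : Set G)).relIndex F) :
    KL.Q.PlugGG.GInQ (TY S Z j) (YQ Z j) (MQ Z W ZJ i j) (Zs Z j) ZJ (PQ Z W i j) F where
  TC := (h.syl j).1
  two := h.T_two j
  syl := syl_not_dvd (h.syl j)
  sq := fun _ hn => h.MQ_sq hn
  CN := h.MQ_norm i j
  CZ := fun c hc z hz => YQ_Zs hc hz
  ZX := h.Zs_le_ZJ j
  ZY := le_sup_right
  XN := le_sup_right.trans (h.le_MQ i j)
  YN := h.PQ_le_MQ i j
  Y4 := h.four_le hij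
  XY := by
    rintro x ⟨hx, hx'⟩
    obtain ⟨w, hw, s, hs, rfl⟩ := h.mem_PQ hx'
    refine mul_mem (Z_le_Zs hij (h.W_inf_ZJ hw ?_)) hs
    have e : w = w * s * s⁻¹ := by group
    rw [e]
    exact mul_mem hx (inv_mem (h.Zs_le_ZJ j hs))
  nX := nX
  nY := nY
  tY := by
    intro t ht x hx
    obtain ⟨w, hw, s, hs, rfl⟩ := h.mem_PQ hx
    rw [h.comm_mul_Zs ht.2 hs]
    exact Z_le_Zs hij (h.TY_com hij ht hw)
  sX := by
    intro x hx hmZ c hc hcm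
    obtain ⟨m, hm, s, hs, rfl⟩ := h.mem_ZJ' (j := j) hx
    rw [h.comm_mul_Zs hc hs] at hcm
    have hm1 : m ≠ 1 := by
      rintro rfl
      exact hmZ (by rwa [one_mul])
    have h1 := h.coset_Z hm hc hcm
    exact h.norm_ZJ' hc (h.cent_m hm hm1 (mem_inf.2 ⟨hc, mem_centralizer_singleton_iff.2 h1⟩))
  sY := by
    intro v hv hvZ c hc hcv
    obtain ⟨w, hw, s, hs, rfl⟩ := h.mem_PQ hv
    rw [h.comm_mul_Zs hc hs] at hcv
    have hwZ : w ∉ Z i := fun e => hvZ (mul_mem (Z_le_Zs hij e) hs)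
    have h1 := h.coset_W hij hw hc hcv
    have h3 := h.stabW hij hw hwZ hc h1
    rw [mem_normalizer_iff_cj]
    have e : cj c (W i ⊔ Zs Z j) = cj c (W i) ⊔ cj c (Zs Z j) := Subgroup.map_sup _ _ _
    show cj c (W i ⊔ Zs Z j) = W i ⊔ Zs Z j
    rw [e, mem_normalizer_iff_cj.1 h3]
    congr 1
    rw [← mem_normalizer_iff_cj]
    refine mem_nor_of (C := YQ Z j) (fun c hc z hz => ?_) hc
    rw [YQ_Zs hc hz, mul_inv_cancel_right]
    exact hz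
  u1 := u1
  u2 := by
    intro R hR hRY hn
    obtain ⟨h1, h2, h3⟩ := u2 R hR hRY hn
    refine ⟨h1, PQ Z W j j, ?_, ?_, h2, ?_, h3⟩
    · exact (h.ZJ_le j).trans (sup_le_sup_right (h.bg.fr.blk j).ZV _)
    · refine sup_le ((h.W_le_NQ j).trans (h.NQ_le_MQ i j)) ?_
      exact (h.Zs_le_ZJ j).trans (le_sup_right.trans (h.le_MQ i j))
    · rintro x ⟨hx, hx'⟩
      obtain ⟨v, hv, s, hs, rfl⟩ := h.mem_PQ hx
      obtain ⟨w, hw, s', hs', e⟩ := h.mem_PQ hx'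
      refine mul_mem ?_ hs
      have hsC : s ∈ C j := Two.Zs_le_C h.bg j hs
      have hsC' : s' ∈ C j := Two.Zs_le_C h.bg j hs'
      have hwC : w ∈ C j := h.bg.fr.WjC j i hij.symm hw
      have h5 : v ∈ C j := by
        have e1 : v = w * s' * s⁻¹ := by rw [← e]; group
        rw [e1]
        exact mul_mem (mul_mem hwC hsC') (inv_mem hsC)
      have h4 : v ∈ W j ⊓ C j := mem_inf.2 ⟨hv, h5⟩
      rw [h.bg.fr.dir j, mem_bot] at h4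
      rw [h4]
      exact one_mem _
  ex := by
    obtain ⟨m, hm, hm1, hT⟩ := h.exists_m j
    refine ⟨m, h.bg.fr.Z_le j hm, fun e => hm1 (h.Z_inf_Zs hm e), fun t ht => ?_⟩
    have h1 : t * m = m * t := mem_centralizer_singleton_iff.1 (hT ht)
    rw [h1, mul_inv_cancel_right, mul_inv_cancel]
    exact one_mem _
  gen := by
    intro x hx hmZ _ U hmU hYU hn
    have hZU : Zs Z j ≤ U := le_sup_right.trans hYU
    obtain ⟨m, hm, s, hs, rfl⟩ := h.mem_ZJ' (j := j) hx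
    have hm1 : m ≠ 1 := by
      rintro rfl
      exact hmZ (by rwa [one_mul])
    have hmU' : m ∈ U := by
      have e : m = m * s * s⁻¹ := by group
      rw [e]
      exact mul_mem hmU (inv_mem (hZU hs))
    have h1 : NQ Z j ≤ U := by
      rw [h.NQ_eq hm hm1]
      exact cls_min (by rwa [zpowers_le]) hn
    refine h.MQ_min (sup_le (le_sup_left.trans hYU) ?_) hn
    exact (h.ZJ_le j).trans (sup_le ((h.Z_le_NQ j).trans h1) hZU)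
  pair := fun ζ hζ hζT O hO hYO hT => h.pair hij hζ hζT hO hYO hT
  el := el
  Ax := by
    refine hFO.trans (NO3b.UMethod.o2_le_o2_of_normal (le_inf (h.D_le j) (centralizer_le_normalizer _)) ?_)
    exact inf_le_right.trans fun x hx => centralizer_norm _ hx
  Ay := by
    refine hFW.trans (NO3b.UMethod.o2_le_o2_of_normal ?_ ?_)
    · refine le_inf inf_le_left ?_
      rintro x ⟨hx, hc⟩
      refine centralizer_le_normalizer _ (mem_centralizer_iff.2 ?_)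
      intro v hv
      obtain ⟨w, hw, s, hs, rfl⟩ := h.mem_PQ hv
      have h1 := mem_centralizer_iff.1 hc w hw
      have h2 := YQ_Zs hx hs
      rw [mul_assoc, ← h2, ← mul_assoc, h1, mul_assoc]
    · have e : YQ Z j ⊓ centralizer (W i : Set G) = YQ Z j ⊓ centralizer (PQ Z W i j : Set G) := by
        apply le_antisymm
        · refine le_inf inf_le_left ?_
          rintro x ⟨hx, hc⟩
          refine mem_centralizer_iff.2 ?_
          intro v hv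
          obtain ⟨w, hw, s, hs, rfl⟩ := h.mem_PQ hv
          have h1 := mem_centralizer_iff.1 hc w hw
          have h2 := YQ_Zs hx hs
          rw [mul_assoc, ← h2, ← mul_assoc, h1, mul_assoc]
        · exact inf_le_inf_left _ (centralizer_le (le_sup_left : W i ≤ W i ⊔ Zs Z j))
      rw [e]
      rintro x ⟨hx, hn⟩
      rw [mem_normalizer_iff_cj, cj_inf, cj_eq_of_mem_normalizer (Subgroup.le_normalizer hx), cj_centralizer,
        cj_eq_of_mem_normalizer hn]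
  mv := fun hc => mv (hc.trans (centralizer_le (h.NQ_le_MQ i j)))
  kerA := by
    intro a ha hn
    refine hFc (mem_inf.2 ⟨ha, ?_⟩)
    have haY : a ∈ YQ Z j := h.D_le j ((MinSimple.VModule.o2_le _) (hFO ha))
    have h1 : NQ Z j ≤ centralizer ({a} : Set G) := by
      refine NoFF.Basic.V_le ?_
      rintro y hy _ ⟨m, hm, rfl⟩
      have hyN : y * m * y⁻¹ ∈ MQ Z W ZJ i j :=
        (mem_normalizer_iff.1 (h.MQ_norm i j hy) m).1 (h.NQ_le_MQ i j (h.Z_le_NQ j hm))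
      have h2 := hn _ hyN
      have hσ : y⁻¹ * a * y ∈ YQ Z j := mul_mem (mul_mem (inv_mem hy) haY) hy
      have h3 : (y⁻¹ * a * y) * m * (y⁻¹ * a * y)⁻¹ * m⁻¹ ∈ Zs Z j := by
        have h5 := YQ_Zs (inv_mem hy) h2
        have e : (y⁻¹ * a * y) * m * (y⁻¹ * a * y)⁻¹ * m⁻¹ =
            y⁻¹ * (a * (y * m * y⁻¹) * a⁻¹ * (y * m * y⁻¹)⁻¹) * y := by group
        rw [e, h5, inv_mul_cancel_right]
        exact h2
      have h4 := h.coset_Z hm hσ h3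
      refine mem_centralizer_singleton_iff.2 ?_
      show y * m * y⁻¹ * a = a * (y * m * y⁻¹)
      calc y * m * y⁻¹ * a = y * (m * (y⁻¹ * a * y)) * y⁻¹ := by group
        _ = y * ((y⁻¹ * a * y) * m) * y⁻¹ := by rw [h4]
        _ = _ := by group
    exact mem_centralizer_iff.2 fun n hn => mem_centralizer_singleton_iff.1 (h1 hn)
  exact := hFe
  KC := KG

end FrG

end Cfsg.Agent.Omega.EK3.QG

end

end

-- merged: Cfsg.Agent.Mrg.Omega.EK3.QG.End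
section

/-!
# (E), `k ≥ 3`, `q ≥ 4`, over `MulG`: the end (port of `EK3/Q/End.lean` of helper176)

* `FrG.gInQ_of` : `(Gq)` for the exact group `F` of STAR;
* **`FrG.false`** : the frame `FrG` is impossible (`MLK`, `Ext`).
-/

set_option autoImplicit false
set_option maxHeartbeats 400000

namespace Cfsg.Agent.Omega.EK3.QG

open Subgroup Cfsg Cfsg.Agent.ZN.ChoiceBase
open Cfsg.Agent.ZN (jj zj bau zc zl o2)
open Cfsg.Agent.Omega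
open Cfsg.Agent.Omega.OM Cfsg.Agent.Omega.OM.Uni
open Cfsg.Agent.Omega.NO3S.EThree.Frame
open Cfsg.Agent.Omega.Node.MultiOf
open Cfsg.Agent.Omega.Node.MulG
open Cfsg.Agent.Omega.EK3.Q (YQ CQ NQ TY OutQ)
open Cfsg.Agent.Omega.EK3.StarE (EE norm_EE le_EE)
open Cfsg.Agent.Omega.EK3.Two (Zs Z_le_Zs)

universe u

variable {G : Type u} [Group G] {k : ℕ}

namespace FrG

variable [Finite G] {S : Sylow 2 G} {P K B ZJ : Subgroup G} {L W Z C : Fin k → Subgroup G} {q : ℕ}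
  (h : FrG S P K B ZJ L W Z C q)
include h

theorem MQ_le_EE (i j : Fin k) : MQ Z W ZJ i j ≤ EE ZJ (YQ Z i ⊔ YQ Z j) :=
  h.MQ_min (sup_le ((h.W_le_NQ i).trans (h.NQ_le_EE' j i |>.trans (by rw [sup_comm]))) (le_EE _ _))
    ((le_sup_right : YQ Z j ≤ YQ Z i ⊔ YQ Z j).trans (norm_EE _ _))

/-- **`(Gq)` for the exact group of STAR** -/
theorem gInQ_of {i j : Fin k} {F : Subgroup G} (o : OutQ ZJ W Z i j F) (KG : IsKGroup (YQ Z j)) :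
    KL.Q.PlugGG.GInQ (TY S Z j) (YQ Z j) (MQ Z W ZJ i j) (Zs Z j) ZJ (PQ Z W i j) F := by
  have h1 := o.exact (MQ Z W ZJ i j) (h.NQ_le_MQ i j) (h.MQ_le_EE i j)
  refine h.gInQ o.ne KG (h.nX j) (h.nY i j) (fun R hR hRY m hm hT hmv => h.u1 o.ne hR hRY hm hT hmv)
    (fun R hR hRY hn => h.u2 o.ne hR hRY hn) (fun a ha => ?_) o.leO o.low o.mov h1.1 ?_
  · rw [← pow_two]
    exact o.eab.2 a ha
  · exact (h1.2.2.trans h1.2.1.symm).le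

/-- **The frame `FrG` is impossible.** -/
theorem false (hML : ML.Final.MLK.{u, u}) (hE : ML.Ex.Two.Ext.{u, u}) (hK : ∀ j, IsKGroup (YQ Z j))
    (hN : NLoc (centralizer (ZJ : Set G) ⊔ ⨆ i, L i)) : False := by
  obtain ⟨i, j, F, o⟩ := h.out hML hK hN
  obtain ⟨M, _, _, _, X', Y', hp⟩ := (h.gInQ_of o (hK j)).pre
  exact KL.Q.EndG.noPreG hML hE _ _ _ _ _ _ hp

end FrG

end Cfsg.Agent.Omega.EK3.QG

end

-- merged: Cfsg.Agent.Mrg.Omega.EK3.QG.OfMulX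
section

section


/-!
# (E), `k ≥ 3`, `q ≥ 4`, over the case (L) of GammaFF: the frame `FrG` from `MulX.MulL`

* `uniW` : an FF-block over `B` with module in `V_P` has module `W i` and centralises `ZJ ⊓ C i` (`q > 2`);
* `blk_of` : the field `FrG.blk` from `NoW` (helper593 / `KInX.NoW`);
* `frG_of` : `FrG` from `MulL`, the weak (TI) and `NoW`;
* `nloc` : `NLoc (KX ..) → NLoc (C(ZJ) ⊔ ⨆ L i)`;
* `TiWX K`, `NoWX K` : the sockets.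
-/

set_option autoImplicit false
set_option linter.unusedSectionVars false

namespace Cfsg.Agent.Omega.EK3.QG

open Subgroup Cfsg Cfsg.Agent.ZN.ChoiceBase
open Cfsg.Agent.ZN (jj zj bau zc zl o2)
open Cfsg.Agent.ZN.ChoiceSit (Syl)
open Cfsg.Agent.Omega.OM
open Cfsg.Agent.Omega.Frame (Cls)
open Cfsg.Agent.Omega.NO3S.Level (nxt)
open Cfsg.Agent.Omega.OM.UniPlus (NB)
open Cfsg.Agent.Omega.Node.MultiOf Cfsg.Agent.Omega.Node.MulG Cfsg.Agent.Omega.Node.MulX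
open Cfsg.Agent.Omega.EK3.Q (YQ CQ NQ TY mem_YQ)
open Cfsg.Agent.MinSimple.MinParabolic (IsMinPar)
open Cfsg.Agent.Omega.KL.QF.KInX (NoW)

universe u

section

variable {G : Type u} [Group G] [Finite G] {S : Sylow 2 G} {P B ZJ : Subgroup G} {k : ℕ}
  {L W Z C A : Fin k → Subgroup G} {q : ℕ}

/-- **UNI+ over `MulL`**, `q > 2`: an FF-block over `B` with module in `V_P`. -/
theorem uniW (h : MulL S P B ZJ L W Z C A q) (hq : 2 < q) {L' V' : Subgroup G}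
    (hb : FBX B (zl (S : Subgroup G) P) L' V') :
    ∃ i, V' = W i ∧ NB B L' V' (Z i) q ∧ ∀ l, l ≠ i → L' ≤ centralizer (Z l : Set G) := by
  obtain ⟨Z', -, i, rfl, hN, hV, hc, -⟩ := h.uni hb
  refine ⟨i, NO3S.EMany.FourDQ.V_eq h.bg hq hN hV (fun z hz hzC => (hc z hz).1 hzC), hN, fun l hl x hx => ?_⟩
  refine mem_centralizer_iff.2 fun z hz => ?_
  exact ((hc z (h.bg.fr.Z_le l hz)).1 ((h.bg.fr.blk l).ZV.trans (h.bg.fr.WjC i l (Ne.symm hl)) hz) x hx).symm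

/-- a block over `B` with module in `V_P` which centralises all `Z l`, `l ≠ j`, has module `W j` -/
theorem uniW_eq (h : MulL S P B ZJ L W Z C A q) (hq : 2 < q) {L' V' : Subgroup G}
    (hb : FBX B (zl (S : Subgroup G) P) L' V') {j : Fin k} (hL : L' ≤ YQ Z j) : V' = W j := by
  obtain ⟨i, rfl, hN, -⟩ := uniW h hq hb
  by_contra hne
  have hij : i ≠ j := fun e => hne (by rw [e])
  obtain ⟨x, hx, hmv, -⟩ := hN.toFB.exists_mv
  apply hmv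
  rw [← mem_normalizer_iff_cj]
  refine centralizer_le_normalizer _ ?_
  exact mem_centralizer_iff.2 fun z hz => (mem_YQ.1 (hL hx) i hij z hz).symm

/-- **The field `FrG.blk`** from `NoW`. -/
theorem blk_of (h : MulL S P B ZJ L W Z C A q) (hq : 2 < q) (hw : ∀ j, NoW S P Z j) (j : Fin k) (R : Subgroup G)
    (hRY : R ≤ YQ Z j) (hR : IsMinPar (TY S Z j) R) (hT : Syl (TY S Z j) R)
    (hc : R ⊓ centralizer (o2 R : Set G) ≤ o2 R) (hK : ¬ nxt (S : Subgroup G) (o2 P) ≤ o2 R)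
    (hZ : ¬ R ≤ centralizer (zc (TY S Z j) : Set G)) :
    ∃ L' : Subgroup G, FBl B L' (W j) ∧ L' ≤ R ∧ R ≤ L' ⊔ TY S Z j := by
  have hB : B ≤ TY S Z j := by
    rw [h.eB]
    refine le_inf inf_le_left (le_iInf fun l => inf_le_right.trans (centralizer_le ?_))
    exact_mod_cast h.bg.fr.Z_le l
  obtain ⟨L', V', h1, h2, h3⟩ := Node.MulXTwo.exists_fbx h hT hB hR hc (hw j R hR hRY hc hZ) hK hZ
  obtain rfl := uniW_eq h hq h2 (h1.trans hRY)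
  exact ⟨L', h2.1, h1, h3.trans (sup_comm _ _).le⟩

/-- **The frame `FrG`** from `MulL`, the weak (TI) and `NoW`. -/
theorem frG_of (h : MulL S P B ZJ L W Z C A q) (hk : 3 ≤ k) (hq : 4 ≤ q)
    (hti : ∀ j, ∀ m ∈ Z j, m ≠ 1 → YQ Z j ⊓ centralizer ({m} : Set G) ≤ normalizer (Z j : Set G))
    (hw : ∀ j, NoW S P Z j) : FrG S P (nxt (S : Subgroup G) (o2 P)) B ZJ L W Z C q where
  mul := h.toG
  three := hk
  four := hq
  ti := hti
  blk := blk_of h (by omega) hw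

/-- **`KX ≤ ⟨C_G(Z_J), L_i⟩`** over `FrG`, `MulL`. -/
theorem KX_le (h : MulL S P B ZJ L W Z C A q) {K : Subgroup G} (hF : FrG S P K B ZJ L W Z C q) :
    KX B ZJ (zl (S : Subgroup G) P) ≤ centralizer (ZJ : Set G) ⊔ ⨆ i, L i := by
  have hq : 2 < q := by have := hF.four; omega
  refine sup_le le_sup_left (iSup_le ?_)
  rintro ⟨⟨L', V'⟩, hb⟩
  obtain ⟨i, rfl, -, hc⟩ := uniW h hq hb
  have hY : L' ≤ YQ Z i := le_iInf fun l => hc l l.2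
  refine (hF.blk_both hb.1 hY).1.trans (sup_le (le_sup_of_le_right (le_iSup L i)) ?_)
  exact le_sup_of_le_left inf_le_left

/-- **the nonlocality** -/
theorem nloc (h : MulL S P B ZJ L W Z C A q) {K : Subgroup G} (hF : FrG S P K B ZJ L W Z C q)
    (hN : NLoc (KX B ZJ (zl (S : Subgroup G) P))) : NLoc (centralizer (ZJ : Set G) ⊔ ⨆ i, L i) :=
  fun U hU hn => hN U hU ((KX_le h hF).trans hn)

end

section sockets

variable (K : Cls.{u})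

/-- **socket (weak TI)**, `k ≥ 3`, `q ≥ 4`, over `MulL`: `C_G(⟨m⟩ × Λ_j) ≤ N_G(Z_j)`. -/
def TiWX : Prop :=
  ∀ (G : Type u) [Group G] [Finite G], K G → ∀ (S : Sylow 2 G) (P B ZJ : Subgroup G) (k : ℕ)
    (L W Z C A : Fin k → Subgroup G) (q : ℕ), 3 ≤ k → 4 ≤ q → MulL S P B ZJ L W Z C A q →
      NLoc (KX B ZJ (zl (S : Subgroup G) P)) →
        ∀ j, ∀ m ∈ Z j, m ≠ 1 → YQ Z j ⊓ centralizer ({m} : Set G) ≤ normalizer (Z j : Set G)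

/-- **socket (NoW)**, `k ≥ 3`, `q ≥ 4`, over `MulL`: no weird `Y ≤ C_G(Z_l : l ≠ j)` over `C_S(Z_l : l ≠ j)`. -/
def NoWX : Prop :=
  ∀ (G : Type u) [Group G] [Finite G], K G → ∀ (S : Sylow 2 G) (P B ZJ : Subgroup G) (k : ℕ)
    (L W Z C A : Fin k → Subgroup G) (q : ℕ), 3 ≤ k → 4 ≤ q → MulL S P B ZJ L W Z C A q →
      NLoc (KX B ZJ (zl (S : Subgroup G) P)) → ∀ j, NoW S P Z j

end sockets

end Cfsg.Agent.Omega.EK3.QG

end

section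


/-!
# Row (8) over the case (L) of GammaFF: `EX K (3 ≤ k ∧ 4 ≤ q)` over `MulL`

* `false_mulX` : (E), `k ≥ 3`, `q ≥ 4`, over `MulL`, from the weak (TI) and `NoW`;
* **`eX_of : MLK → Ext → TiWX K → NoWX K → EX K (3 ≤ k ∧ 4 ≤ q)`**.
-/

set_option autoImplicit false
set_option linter.unusedSectionVars false

namespace Cfsg.Agent.Omega.EK3.QG

open Subgroup Cfsg Cfsg.Agent.ZN.ChoiceBase
open Cfsg.Agent.ZN (jj zj bau zc zl o2)
open Cfsg.Agent.Omega.Frame (Cls)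
open Cfsg.Agent.Omega.Node.MultiOf Cfsg.Agent.Omega.Node.MulX
open Cfsg.Agent.Omega.EK3.Q (YQ)
open Cfsg.Agent.Omega.KL.QF.KInX (NoW)

universe u

/-- **(E), `k ≥ 3`, `q ≥ 4`, over `MulL`**, from the weak (TI) and `NoW`. -/
theorem false_mulX (hML : ML.Final.MLK.{u, u}) (hE : ML.Ex.Two.Ext.{u, u}) {G : Type u} [Group G] [Finite G]
    {S : Sylow 2 G} {P B ZJ : Subgroup G} {k : ℕ} {L W Z C A : Fin k → Subgroup G} {q : ℕ}
    (h : MulL S P B ZJ L W Z C A q) (hk : 3 ≤ k) (hq : 4 ≤ q)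
    (hN : NLoc (KX B ZJ (zl (S : Subgroup G) P)))
    (hti : ∀ j, ∀ m ∈ Z j, m ≠ 1 → YQ Z j ⊓ centralizer ({m} : Set G) ≤ normalizer (Z j : Set G))
    (hw : ∀ j, NoW S P Z j) : False := by
  have hF := frG_of h hk hq hti hw
  exact hF.false hML hE (Q.Tree.kgroup_YQ h.bg) (nloc h hF hN)

/-- **Row (8) over `MulL`, from the sockets.** -/
theorem eX_of {K : Cls.{u}} (hML : ML.Final.MLK.{u, u}) (hE : ML.Ex.Two.Ext.{u, u}) (hT : TiWX K) (hW : NoWX K) :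
    EX K fun k q => 3 ≤ k ∧ 4 ≤ q := by
  rintro G _ _ hG S P B ZJ k L W Z C A q - ⟨hk, hq⟩ hM hN
  exact (false_mulX hML hE hM hk hq hN (hT G hG S P B ZJ k L W Z C A q hk hq hM hN)
    (hW G hG S P B ZJ k L W Z C A q hk hq hM hN)).elim

end Cfsg.Agent.Omega.EK3.QG

end

end
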